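import Cfsg.Agent.H916.RG.Pair
import Cfsg.Agent.H123.Cls.SuzOre

/-!
# S3509: `Suz`, pair certificates by tables of degree 1782 (helper916)

* `Tab s T` : the permutation `ψ s` has the table `T`; `Mem T` : some element has the table `T`;
* `DeadT T U` : pairs of elements with these tables are dead; `DeadT.step`, `DeadT.same`;
* `dead_conj` : transport along the conjugation by an element of `Suz : 2`.
-/

set_option autoImplicit false
set_option exponentiation.threshold 5000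

namespace Cfsg.Agent.H916.RG

section PCs

variable {A : Type*} [Group A] {N H : Subgroup A} {a b : A}

theorem PC.pow_left (h : PC N H a b) (k : ℕ) : PC N H (a ^ k) b := (h.symm.pow_right k).symm

theorem PC.comm_right' (h : PC N H a b) {n : A} (hn : n ∈ N) (hc : n * a = a * n) (k : ℕ) :
    PC N H a ((n * b * n⁻¹ * b⁻¹) ^ k) :=
  ((h.conj_right hn hc).mul_right h.inv_right).pow_right k

theorem Dead.step' {n y : A} (hn : n ∈ N) (hc : n * a = a * n) (k : ℕ)
    (h : (n * b * n⁻¹ * b⁻¹) ^ k = y) (hD : Dead N a y) : Dead N a b := by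
  intro H hH hP
  have h1 := hP.comm_right' hn hc k
  rw [h] at h1
  exact hD H hH h1

theorem Dead.of_pow {k l : ℕ} (h : Dead N (a ^ k) (b ^ l)) : Dead N a b := fun H hH hP =>
  h H hH ((hP.pow_left k).pow_right l)

end PCs

namespace Suz

open Cfsg Cfsg.Spor Cfsg.Agent.H123.Cls Cfsg.Agent.Lib.BitNet
open Cfsg.Agent.H763.Ore.SuzModel (A N A_conj card_A card_N N_le_A)
open Cfsg.Agent.OddHalf.Table.SuzRep (ψ ψ_val ψ_injective)
open Cfsg.Agent.Lib.BitNetSimple (force force_eq)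
open Cfsg.Agent.H123.Cls.SuzDat (gens gn gn_tab)

/-- the element `s` has the table `T` -/
def Tab (s : Suz) (T : ℕ) : Prop := ∀ p : Fin 1782, (ψ s p : ℕ) = lk 11 T p

/-- some element has the table `T` -/
def Mem (T : ℕ) : Prop := ∃ s : Suz, Tab s T

theorem Tab.eq {s t : Suz} {T : ℕ} (hs : Tab s T) (ht : Tab t T) : s = t := by
  apply ψ_injective
  ext p
  rw [hs, ht]

theorem Tab.ne_one {s : Suz} {T p : ℕ} (hs : Tab s T) (hp : Nat.blt p 1782 = true) (h : Nat.beq (lk 11 T p) p = false) :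
    s ≠ 1 := by
  rintro rfl
  have h1 := hs ⟨p, Nat.blt_eq.mp hp⟩
  rw [map_one] at h1
  have h2 : p = lk 11 T p := h1
  rw [← h2, Nat.beq_refl] at h
  exact Bool.noConfusion h

/-- words in tables -/
theorem mem_word {tabs : List ℕ} (h : ∀ T ∈ tabs, Mem T) {P : ℕ} {l : List ℕ}
    (hl : chkW 1782 11 tabs P l = true) : Mem P := by
  have ht : Tabs 11 N tabs := by
    intro x hx
    have h1 : nth tabs x ∈ tabs := by
      rw [nth_eq, List.getD_eq_getElem _ _ hx]
      exact List.getElem_mem hx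
    obtain ⟨s, hs⟩ := h _ h1
    exact ⟨ψ s, ⟨s, rfl⟩, hs⟩
  obtain ⟨g, ⟨s, rfl⟩, hg⟩ := exists_of_chkW ht hl
  exact ⟨s, hg⟩

theorem mem_gens : ∀ T ∈ gens, Mem T := by
  intro T hT
  obtain ⟨i, hi, rfl⟩ := List.mem_iff_getElem.1 hT
  refine ⟨PresentedGroup.of (gn i), fun p => ?_⟩
  have hi' : i < 7 := hi
  rw [gn_tab hi', nth_eq, List.getD_eq_getElem _ _ hi]

theorem mem_cons {T : ℕ} (h : Mem T) {l : List ℕ} (hl : ∀ U ∈ l, Mem U) : ∀ U ∈ T :: l, Mem U := by
  intro U hU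
  rcases List.mem_cons.1 hU with rfl | hU
  · exact h
  · exact hl U hU

/-- `P (Q p) = Q (P p)` -/
noncomputable def ckC (P Q : ℕ) : Bool :=
  allN (fun p => force (lk 11 Q p) fun x => force (lk 11 P p) fun y => Nat.beq (lk 11 P x) (lk 11 Q y)) 1782

/-- `V` is the table of `n b n⁻¹ b⁻¹` -/
noncomputable def ckV (V B T : ℕ) : Bool :=
  allN (fun p => force (lk 11 T p) fun x => force (lk 11 B x) fun y => force (lk 11 B p) fun z =>
    Nat.beq (lk 11 V y) (lk 11 T z)) 1782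

/-- `Y` is the table of the power -/
noncomputable def ckP (T k Y : ℕ) : Bool := allN (fun p => Nat.beq (it 11 T k p) (lk 11 Y p)) 1782

theorem comm_of_ckC {s t : Suz} {P Q : ℕ} (hs : Tab s P) (ht : Tab t Q) (h : ckC P Q = true) : s * t = t * s := by
  apply ψ_injective
  ext p
  have h1 := (allN_iff _ _).1 h p p.2
  rw [force_eq, force_eq] at h1
  have h2 := Nat.eq_of_beq_eq_true h1
  rw [map_mul, map_mul, Equiv.Perm.mul_apply, Equiv.Perm.mul_apply, hs, ht, ht, hs, h2]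

theorem tab_pow {s : Suz} {T : ℕ} (hs : Tab s T) (k : ℕ) (p : Fin 1782) : (ψ (s ^ k) p : ℕ) = it 11 T k p := by
  induction k generalizing p with
  | zero => rw [pow_zero, map_one]; rfl
  | succ k ih => rw [pow_succ, map_mul, Equiv.Perm.mul_apply, ih, it_succ, hs]

theorem tab_of_ckP {s : Suz} {T k Y : ℕ} (hs : Tab s T) (h : ckP T k Y = true) : Tab (s ^ k) Y := by
  intro p
  rw [tab_pow hs]
  exact Nat.eq_of_beq_eq_true ((allN_iff _ _).1 h p p.2)

theorem tab_of_ckV {n b : Suz} {V B T : ℕ} (hn : Tab n T) (hb : Tab b B) (h : ckV V B T = true) :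
    Tab (n * b * n⁻¹ * b⁻¹) V := by
  intro p
  set x := ψ n with hx
  set y := ψ b with hy
  obtain ⟨q, rfl⟩ : ∃ q, p = y (x q) := ⟨x⁻¹ (y⁻¹ p), by
    show p = y (x (x⁻¹ (y⁻¹ p)))
    rw [show x (x⁻¹ (y⁻¹ p)) = y⁻¹ p from Equiv.apply_symm_apply x _]
    exact (Equiv.apply_symm_apply y _).symm⟩
  have h1 := (allN_iff _ _).1 h q q.2
  rw [force_eq, force_eq, force_eq] at h1
  have h2 := Nat.eq_of_beq_eq_true h1
  have e1 : (y (x q) : ℕ) = lk 11 B (lk 11 T q) := by rw [hy, hb, hx, hn]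
  have e2 : (x (y q) : ℕ) = lk 11 T (lk 11 B q) := by rw [hx, hn, hy, hb]
  rw [e1, h2, ← e2, map_mul, map_mul, map_mul, map_inv, map_inv, ← hx, ← hy]
  have e : (x * y * x⁻¹ * y⁻¹) (y (x q)) = x (y q) := by
    show x (y (x⁻¹ (y⁻¹ (y (x q))))) = x (y q)
    rw [show y⁻¹ (y (x q)) = x q from Equiv.symm_apply_apply y _]
    rw [show x⁻¹ (x q) = q from Equiv.symm_apply_apply x _]
  rw [e]

/-- pairs of elements with these tables are dead -/
def DeadT (T U : ℕ) : Prop := ∀ x y : Suz, Tab x T → Tab y U → Dead (⊤ : Subgroup Suz) x y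

theorem DeadT.symm {T U : ℕ} (h : DeadT T U) : DeadT U T := fun x y hx hy => (h y x hy hx).symm

theorem DeadT.same (hN : Nice (⊤ : Subgroup Suz)) {T p : ℕ} (hp : Nat.blt p 1782 = true)
    (h : Nat.beq (lk 11 T p) p = false) : DeadT T T := by
  intro x y hx hy H hH hP
  have e := hx.eq hy
  subst e
  exact hN.absurd hH (hx.ne_one hp h) hP

theorem DeadT.step {Ta Tb T V Y k : ℕ} (hn : Mem T) (h1 : ckC T Ta = true) (h2 : ckV V Tb T = true)
    (h3 : ckP V k Y = true) (h : DeadT Ta Y) : DeadT Ta Tb := by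
  intro x y hx hy
  obtain ⟨n, hn⟩ := hn
  exact Dead.step' (Subgroup.mem_top n) (comm_of_ckC hn hx h1) k rfl
    (h x _ hx (tab_of_ckP (tab_of_ckV hn hy h2) h3))

/-- transport along the conjugation by an element of `Suz : 2` -/
theorem dead_conj {c : Equiv.Perm (Fin 1782)} (hc : c ∈ A) {x y x0 y0 : Suz} (hx : ψ x = c * ψ x0 * c⁻¹)
    (hy : ψ y = c * ψ y0 * c⁻¹) (h : Dead (⊤ : Subgroup Suz) x0 y0) : Dead (⊤ : Subgroup Suz) x y := by
  intro H hH hP
  let f : Suz →* Equiv.Perm (Fin 1782) := (MulAut.conj c).toMonoidHom.comp ψ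
  have hf : ∀ s, f s = c * ψ s * c⁻¹ := fun s => rfl
  have hmem : ∀ t : Suz, ψ t ∈ H.map ψ ↔ t ∈ H := fun t => by
    constructor
    · rintro ⟨s, hs, hst⟩
      rwa [← ψ_injective hst]
    · intro ht
      exact ⟨t, ht, rfl⟩
  refine h ((H.map ψ).comap f) ?_ ?_
  · intro hle
    apply hH
    intro t _
    obtain ⟨s, hs⟩ := A_conj (A.inv_mem hc) (⟨t, rfl⟩ : ψ t ∈ N)
    rw [inv_inv] at hs
    have h1 : f s ∈ H.map ψ := hle (Subgroup.mem_top s)
    have h2 : f s = ψ t := by rw [hf, hs]; group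
    rw [h2] at h1
    exact (hmem t).1 h1
  · intro s _
    obtain ⟨t, ht⟩ := A_conj hc (⟨s, rfl⟩ : ψ s ∈ N)
    have key : ∀ u u0 : Suz, ψ u = c * ψ u0 * c⁻¹ → f (s * u0 * s⁻¹) = ψ (t * u * t⁻¹) := by
      intro u u0 hu
      rw [hf, map_mul, map_mul, map_mul, map_mul, map_inv, map_inv, hu, ht]
      group
    rcases hP t (Subgroup.mem_top t) with h1 | h1
    · left
      rw [Subgroup.mem_comap, key x x0 hx]
      exact (hmem _).2 h1
    · right
      rw [Subgroup.mem_comap, key y y0 hy]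
      exact (hmem _).2 h1

end Suz

end Cfsg.Agent.H916.RG
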