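import Cfsg.Agent.H916.RG.Suz.Ord
import Cfsg.Agent.H916.RG.Use
import Cfsg.Agent.H106.RC.Cover

/-!
# S3509: `Suz`, no cover by elements of the simple group (helper916)

* `dead_pair` : commuting elements of different prime orders are a dead pair;
* `inner_dead` : no cover all members of which are in `N ≅ Suz`.
-/

set_option autoImplicit false

namespace Cfsg.Agent.H916.RG.Suz

open Cfsg Cfsg.Spor Cfsg.Agent.H106.RC MulAction

/-- commuting elements of different prime orders are a dead pair -/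
theorem dead_pair (hN : Nice (⊤ : Subgroup Suz)) {a b : Suz} {p q : ℕ} (hp : p.Prime) (hq : q.Prime) (hpq : p ≠ q)
    (ha : orderOf a = p) (hb : orderOf b = q) (hab : a * b = b * a) : Dead (⊤ : Subgroup Suz) a b := by
  wlog hlt : p < q generalizing a b p q
  · exact (this hq hp hpq.symm hb ha hab.symm (by omega)).symm
  have hc : Commute a b := hab
  have ho : orderOf (a * b) = p * q := by
    rw [hc.orderOf_mul_eq_mul_orderOf_of_coprime (by rw [ha, hb]; exact (Nat.coprime_primes hp hq).2 hpq), ha, hb]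
  have h1 := (good hN (a * b)).2 p q hp hq hlt ho
  rw [hc.mul_pow, hc.mul_pow, ← hb, pow_orderOf_eq_one, mul_one, ← ha, pow_orderOf_eq_one, one_mul] at h1
  exact h1.of_pow

theorem orderOf_prime {G ι : Type*} [Group G] {x : ι → G} {r : ι → ℕ} (hx : PF x r) (i : ι) : orderOf (x i) = r i :=
  orderOf_eq_prime (hx.pow i) (hx.ne i) (hp := ⟨hx.prime i⟩)

theorem mul3_le {p q r : ℕ} (hp : p.Prime) (hq : q.Prime) (hr : r.Prime) (h1 : p ≠ q) (h2 : p ≠ r) (h3 : q ≠ r) :
    24 < p * q * r := by
  by_contra hcon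
  push Not at hcon
  have p2 := hp.two_le
  have q2 := hq.two_le
  have r2 := hr.two_le
  have hp' : p ≤ 6 := by nlinarith [Nat.mul_le_mul q2 r2, Nat.mul_le_mul_left p (Nat.mul_le_mul q2 r2)]
  have hq' : q ≤ 6 := by nlinarith [Nat.mul_le_mul p2 r2, Nat.mul_le_mul_left q (Nat.mul_le_mul p2 r2)]
  have hr' : r ≤ 6 := by nlinarith [Nat.mul_le_mul p2 q2, Nat.mul_le_mul_left r (Nat.mul_le_mul p2 q2)]
  interval_cases p <;> first | (exact absurd hp (by decide)) | skip
  all_goals interval_cases q <;> first | (exact absurd hq (by decide)) | (exact absurd rfl h1) | skip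
  all_goals interval_cases r <;> first | (exact absurd hr (by decide)) | (exact absurd rfl h2) | (exact absurd rfl h3) | omega

/-- **no cover by elements of `N`** -/
theorem inner_dead {G : Type} [Group G] [Finite G] {Ω : Type} [Finite Ω] [Nonempty Ω] [MulAction G Ω] {N : Subgroup G}
    (hE : Env G Ω N) (e : N ≃* Spor.Suz) {ι : Type} [Finite ι] {x : ι → G} {r : ι → ℕ} (hx : PF x r) (hc : Cov Ω x)
    (hN : ∀ i, x i ∈ N) : False := by
  have hn : Nice (⊤ : Subgroup Suz) := nice_top (simple_cgr e hE.simple) (nc_cgr e hE.ncomm)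
  let y : ι → Suz := fun i => e ⟨x i, hN i⟩
  have hyo : ∀ i, orderOf (y i) = r i := fun i => by
    rw [← orderOf_prime hx i]
    show orderOf (e ⟨x i, hN i⟩) = _
    rw [e.orderOf_eq, Subgroup.orderOf_mk]
  have hyc : ∀ i j, y i * y j = y j * y i := fun i j => by
    show e ⟨x i, hN i⟩ * e ⟨x j, hN j⟩ = e ⟨x j, hN j⟩ * e ⟨x i, hN i⟩
    rw [← map_mul, ← map_mul]
    congr 1
    exact Subtype.ext (hx.comm i j)
  obtain ⟨ω⟩ := (inferInstance : Nonempty Ω)
  obtain ⟨i, -⟩ := hc ω
  obtain ⟨j, hji⟩ := hc.two hE hx.ne i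
  have hrij : r i ≠ r j := fun h => hji (hx.inj h).symm
  -- no third member
  have h3 : ∀ k, k = i ∨ k = j := by
    intro k
    by_contra hk
    push Not at hk
    have hki : r k ≠ r i := fun h => hk.1 (hx.inj h)
    have hkj : r k ≠ r j := fun h => hk.2 (hx.inj h)
    have c1 : Commute (y i) (y j) := hyc i j
    have o1 : orderOf (y i * y j) = r i * r j := by
      rw [c1.orderOf_mul_eq_mul_orderOf_of_coprime (by
        rw [hyo, hyo]; exact (Nat.coprime_primes (hx.prime i) (hx.prime j)).2 hrij), hyo, hyo]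
    have c2 : Commute (y i * y j) (y k) := Commute.mul_left (hyc i k) (hyc j k)
    have o2 : orderOf (y i * y j * y k) = r i * r j * r k := by
      rw [c2.orderOf_mul_eq_mul_orderOf_of_coprime (by
        rw [o1, hyo]
        exact Nat.Coprime.mul_left ((Nat.coprime_primes (hx.prime i) (hx.prime k)).2 hki.symm)
          ((Nat.coprime_primes (hx.prime j) (hx.prime k)).2 hkj.symm)), o1, hyo]
    have h4 := (good hn (y i * y j * y k)).1
    rw [o2] at h4
    exact absurd (mul3_le (hx.prime i) (hx.prime j) (hx.prime k) hrij hki.symm hkj.symm) (by omega)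
  -- the stabiliser
  let f : Suz →* G := N.subtype.comp e.symm.toMonoidHom
  have hf : ∀ (s : Suz) (l : ι), f (s * y l * s⁻¹) = f s * x l * (f s)⁻¹ := fun s l => by
    rw [map_mul, map_mul, map_inv]
    congr 2
    show ((e.symm (e ⟨x l, hN l⟩) : N) : G) = x l
    rw [e.symm_apply_apply]
  refine dead_pair hn (hx.prime i) (hx.prime j) hrij (hyo i) (hyo j) (hyc i j) ((stabilizer G ω).comap f) ?_ ?_
  · intro hle
    apply hE.nofix ω
    intro n hn'
    have h5 : f (e ⟨n, hn'⟩) ∈ stabilizer G ω := hle (Subgroup.mem_top _)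
    have h6 : f (e ⟨n, hn'⟩) = n := by
      show ((e.symm (e ⟨n, hn'⟩) : N) : G) = n
      rw [e.symm_apply_apply]
    rwa [h6] at h5
  · intro s _
    have key : ∀ l, x l • ((f s)⁻¹ • ω) = (f s)⁻¹ • ω → s * y l * s⁻¹ ∈ (stabilizer G ω).comap f := by
      intro l hl
      rw [Subgroup.mem_comap, hf, mem_stabilizer_iff, mul_smul, mul_smul, hl, smul_inv_smul]
    obtain ⟨l, hl⟩ := hc ((f s)⁻¹ • ω)
    rcases h3 l with rfl | rfl
    · exact Or.inl (key _ hl)
    · exact Or.inr (key _ hl)

end Cfsg.Agent.H916.RG.Suz
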