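import Cfsg.Agent.H916.RG.Suz.Base

import Cfsg.Agent.H916.RG.Suz.K3
import Cfsg.Agent.H916.RG.Suz.K10
import Cfsg.Agent.H916.RG.Suz.K12
import Cfsg.Agent.H916.RG.Suz.K13
import Cfsg.Agent.H916.RG.Suz.K15
import Cfsg.Agent.H916.RG.Suz.K17
import Cfsg.Agent.H916.RG.Suz.K18
import Cfsg.Agent.H916.RG.Suz.K25
import Cfsg.Agent.H916.RG.Suz.K28
import Cfsg.Agent.H916.RG.Suz.K32

/-!
# S3509: `Suz`, orders of the representatives, pairs of commuting elements of prime order (helper916)

* `Good g` : the pair of powers of prime order of `g` is dead, if `orderOf g` is a product of two primes;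
* `good` : all elements of `Suz` are good, `order_le` : their order is at most 24.
-/

set_option autoImplicit false
set_option maxRecDepth 1000000
set_option exponentiation.threshold 5000
set_option Elab.async false

namespace Cfsg.Agent.H916.RG.Suz

open Cfsg Cfsg.Spor Cfsg.Agent.H123.Cls Cfsg.Agent.Lib.BitNet
open Cfsg.Agent.H763.Ore.SuzModel (A N A_conj card_A card_N N_le_A)
open Cfsg.Agent.OddHalf.Table.SuzRep (ψ ψ_val ψ_injective)
open Cfsg.Agent.H123.Cls.SuzDat

/-- `r ^ m = 1` -/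
noncomputable def ckO (T m : ℕ) : Bool := allN (fun p => Nat.beq (it 11 T m p) p) 1782

/-- `r ^ k` moves the point `p` -/
noncomputable def ckM (T k p : ℕ) : Bool := Nat.blt p 1782 && !(Nat.beq (it 11 T k p) p)

theorem pow_of_ckO {s : Suz} {T m : ℕ} (hs : Tab s T) (h : ckO T m = true) : s ^ m = 1 := by
  apply ψ_injective
  ext p
  rw [map_one, Equiv.Perm.one_apply, tab_pow hs]
  exact Nat.eq_of_beq_eq_true ((allN_iff _ _).1 h p p.2)

theorem ne_of_ckM {s : Suz} {T k p : ℕ} (hs : Tab s T) (h : ckM T k p = true) : s ^ k ≠ 1 := by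
  intro h1
  unfold ckM at h
  rw [Bool.and_eq_true] at h
  have h2 := tab_pow hs k ⟨p, Nat.blt_eq.mp h.1⟩
  rw [h1, map_one, Equiv.Perm.one_apply] at h2
  have h3 : p = it 11 T k p := h2
  have h4 := h.2
  rw [← h3, Nat.beq_refl] at h4
  exact Bool.noConfusion h4

/-- the order of the representative: `pr` lists the primes of `m` -/
theorem ord_of {s : Suz} {T m : ℕ} (hs : Tab s T) (h : ckO T m = true) (hm : 0 < m)
    (pr : List (ℕ × ℕ)) (h1 : ∀ l : ℕ, l.Prime → l ∣ m → ∃ x ∈ pr, x.1 = l)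
    (h2 : ∀ x ∈ pr, ckM T (m / x.1) x.2 = true) : orderOf s = m := by
  refine orderOf_eq_of_pow_and_pow_div_prime hm (pow_of_ckO hs h) ?_
  intro l hl hd
  obtain ⟨x, hx, rfl⟩ := h1 l hl hd
  exact ne_of_ckM hs (h2 x hx)

theorem prs {m : ℕ} (hm : 0 < m) (pr : List (ℕ × ℕ)) (h : ∀ l < m + 1, l.Prime → l ∣ m → ∃ x ∈ pr, x.1 = l) :
    ∀ l : ℕ, l.Prime → l ∣ m → ∃ x ∈ pr, x.1 = l := fun l hl hd =>
  h l (Nat.lt_succ_of_le (Nat.le_of_dvd hm hd)) hl hd

/-- the pair of powers of prime order of `g` is dead, if `orderOf g` is a product of two primes -/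
def Good (g : Suz) : Prop := orderOf g ≤ 24 ∧ ∀ p q : ℕ, p.Prime → q.Prime → p < q → orderOf g = p * q →
  Dead (⊤ : Subgroup Suz) (g ^ q) (g ^ p)

theorem good_conj {c : Equiv.Perm (Fin 1782)} (hc : c ∈ A) {g r : Suz} (hg : ψ g = c * ψ r * c⁻¹) (h : Good r) :
    Good g := by
  have ho : orderOf g = orderOf r := by
    rw [← orderOf_injective ψ ψ_injective g, ← orderOf_injective ψ ψ_injective r, hg]
    exact orderOf_injective (MulAut.conj c).toMonoidHom (MulAut.conj c).injective (ψ r)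
  have hp : ∀ k : ℕ, ψ (g ^ k) = c * ψ (r ^ k) * c⁻¹ := fun k => by
    rw [map_pow, map_pow, hg, conj_pow]
  refine ⟨ho.le.trans h.1, fun p q h1 h2 h3 h4 => ?_⟩
  exact dead_conj hc (hp q) (hp p) (h.2 p q h1 h2 h3 (ho.symm.trans h4))

theorem good_of_ne {g : Suz} {m : ℕ} (hm : orderOf g = m) (h24 : m ≤ 24)
    (h : ∀ p < 25, ∀ q < 25, p.Prime → q.Prime → p < q → m ≠ p * q) : Good g := by
  refine ⟨hm.le.trans h24, fun p q hp hq hpq h1 => ?_⟩
  exfalso
  rw [hm] at h1
  have h2 : p ≤ m := Nat.le_of_dvd (h1 ▸ Nat.mul_pos hp.pos hq.pos) ⟨q, h1⟩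
  have h3 : q ≤ m := Nat.le_of_dvd (h1 ▸ Nat.mul_pos hp.pos hq.pos) ⟨p, by rw [h1, mul_comm]⟩
  exact h p (by omega) q (by omega) hp hq hpq h1

theorem good_of_dead {g : Suz} {m p0 q0 : ℕ} (hm : orderOf g = m) (h24 : m ≤ 24)
    (h : ∀ p < 25, ∀ q < 25, (p.Prime ∧ q.Prime ∧ p < q ∧ m = p * q) → (p, q) = (p0, q0))
    (hd : Dead (⊤ : Subgroup Suz) (g ^ q0) (g ^ p0)) : Good g := by
  refine ⟨hm.le.trans h24, fun p q hp hq hpq h1 => ?_⟩
  rw [hm] at h1
  have h2 : p ≤ m := Nat.le_of_dvd (h1 ▸ Nat.mul_pos hp.pos hq.pos) ⟨q, h1⟩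
  have h3 : q ≤ m := Nat.le_of_dvd (h1 ▸ Nat.mul_pos hp.pos hq.pos) ⟨p, by rw [h1, mul_comm]⟩
  have h4 := h p (by omega) q (by omega) ⟨hp, hq, hpq, h1⟩
  rw [Prod.mk.injEq] at h4
  rw [h4.1, h4.2]
  exact hd

theorem ord0 {s : Suz} (hs : Tab s p0) : orderOf s = 2 :=
  ord_of hs (by decide +kernel) (by decide) [(2, 2)] (prs (by decide) _ (by decide +kernel)) (by decide +kernel)

theorem good0 {s : Suz} (hs : Tab s p0) : Good s :=
  good_of_ne (ord0 hs) (by decide) (by decide +kernel)

theorem ord1 {s : Suz} (hs : Tab s p1) : orderOf s = 1 :=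
  ord_of hs (by decide +kernel) (by decide) [] (prs (by decide) _ (by decide +kernel)) (by decide +kernel)

theorem good1 {s : Suz} (hs : Tab s p1) : Good s :=
  good_of_ne (ord1 hs) (by decide) (by decide +kernel)

theorem ord2 {s : Suz} (hs : Tab s p2) : orderOf s = 4 :=
  ord_of hs (by decide +kernel) (by decide) [(2, 0)] (prs (by decide) _ (by decide +kernel)) (by decide +kernel)

theorem good2 {s : Suz} (hs : Tab s p2) : Good s :=
  good_of_ne (ord2 hs) (by decide) (by decide +kernel)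

theorem ord3 {s : Suz} (hs : Tab s p3) : orderOf s = 6 :=
  ord_of hs (by decide +kernel) (by decide) [(2, 0), (3, 0)] (prs (by decide) _ (by decide +kernel)) (by decide +kernel)

theorem good3 (hN : Nice (⊤ : Subgroup Suz)) {s : Suz} (hs : Tab s p3) : Good s :=
  good_of_dead (p0 := 2) (q0 := 3) (ord3 hs) (by decide) (by decide +kernel)
    (K3.dead hN ⟨s, hs⟩ _ _ (tab_of_ckP hs K3.ha) (tab_of_ckP hs K3.hb))

theorem ord4 {s : Suz} (hs : Tab s p4) : orderOf s = 3 :=
  ord_of hs (by decide +kernel) (by decide) [(3, 0)] (prs (by decide) _ (by decide +kernel)) (by decide +kernel)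

theorem good4 {s : Suz} (hs : Tab s p4) : Good s :=
  good_of_ne (ord4 hs) (by decide) (by decide +kernel)

theorem ord5 {s : Suz} (hs : Tab s p5) : orderOf s = 20 :=
  ord_of hs (by decide +kernel) (by decide) [(2, 0), (5, 0)] (prs (by decide) _ (by decide +kernel)) (by decide +kernel)

theorem good5 {s : Suz} (hs : Tab s p5) : Good s :=
  good_of_ne (ord5 hs) (by decide) (by decide +kernel)

theorem ord6 {s : Suz} (hs : Tab s p6) : orderOf s = 3 :=
  ord_of hs (by decide +kernel) (by decide) [(3, 1)] (prs (by decide) _ (by decide +kernel)) (by decide +kernel)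

theorem good6 {s : Suz} (hs : Tab s p6) : Good s :=
  good_of_ne (ord6 hs) (by decide) (by decide +kernel)

theorem ord7 {s : Suz} (hs : Tab s p7) : orderOf s = 12 :=
  ord_of hs (by decide +kernel) (by decide) [(2, 0), (3, 0)] (prs (by decide) _ (by decide +kernel)) (by decide +kernel)

theorem good7 {s : Suz} (hs : Tab s p7) : Good s :=
  good_of_ne (ord7 hs) (by decide) (by decide +kernel)

theorem ord8 {s : Suz} (hs : Tab s p8) : orderOf s = 12 :=
  ord_of hs (by decide +kernel) (by decide) [(2, 0), (3, 0)] (prs (by decide) _ (by decide +kernel)) (by decide +kernel)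

theorem good8 {s : Suz} (hs : Tab s p8) : Good s :=
  good_of_ne (ord8 hs) (by decide) (by decide +kernel)

theorem ord9 {s : Suz} (hs : Tab s p9) : orderOf s = 11 :=
  ord_of hs (by decide +kernel) (by decide) [(11, 0)] (prs (by decide) _ (by decide +kernel)) (by decide +kernel)

theorem good9 {s : Suz} (hs : Tab s p9) : Good s :=
  good_of_ne (ord9 hs) (by decide) (by decide +kernel)

theorem ord10 {s : Suz} (hs : Tab s p10) : orderOf s = 14 :=
  ord_of hs (by decide +kernel) (by decide) [(2, 0), (7, 0)] (prs (by decide) _ (by decide +kernel)) (by decide +kernel)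

theorem good10 (hN : Nice (⊤ : Subgroup Suz)) {s : Suz} (hs : Tab s p10) : Good s :=
  good_of_dead (p0 := 2) (q0 := 7) (ord10 hs) (by decide) (by decide +kernel)
    (K10.dead hN ⟨s, hs⟩ _ _ (tab_of_ckP hs K10.ha) (tab_of_ckP hs K10.hb))

theorem ord11 {s : Suz} (hs : Tab s p11) : orderOf s = 8 :=
  ord_of hs (by decide +kernel) (by decide) [(2, 0)] (prs (by decide) _ (by decide +kernel)) (by decide +kernel)

theorem good11 {s : Suz} (hs : Tab s p11) : Good s :=
  good_of_ne (ord11 hs) (by decide) (by decide +kernel)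

theorem ord12 {s : Suz} (hs : Tab s p12) : orderOf s = 10 :=
  ord_of hs (by decide +kernel) (by decide) [(2, 1), (5, 1)] (prs (by decide) _ (by decide +kernel)) (by decide +kernel)

theorem good12 (hN : Nice (⊤ : Subgroup Suz)) {s : Suz} (hs : Tab s p12) : Good s :=
  good_of_dead (p0 := 2) (q0 := 5) (ord12 hs) (by decide) (by decide +kernel)
    (K12.dead hN ⟨s, hs⟩ _ _ (tab_of_ckP hs K12.ha) (tab_of_ckP hs K12.hb))

theorem ord13 {s : Suz} (hs : Tab s p13) : orderOf s = 15 :=
  ord_of hs (by decide +kernel) (by decide) [(3, 4), (5, 1)] (prs (by decide) _ (by decide +kernel)) (by decide +kernel)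

theorem good13 (hN : Nice (⊤ : Subgroup Suz)) {s : Suz} (hs : Tab s p13) : Good s :=
  good_of_dead (p0 := 3) (q0 := 5) (ord13 hs) (by decide) (by decide +kernel)
    (K13.dead hN ⟨s, hs⟩ _ _ (tab_of_ckP hs K13.ha) (tab_of_ckP hs K13.hb))

theorem ord14 {s : Suz} (hs : Tab s p14) : orderOf s = 5 :=
  ord_of hs (by decide +kernel) (by decide) [(5, 1)] (prs (by decide) _ (by decide +kernel)) (by decide +kernel)

theorem good14 {s : Suz} (hs : Tab s p14) : Good s :=
  good_of_ne (ord14 hs) (by decide) (by decide +kernel)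

theorem ord15 {s : Suz} (hs : Tab s p15) : orderOf s = 6 :=
  ord_of hs (by decide +kernel) (by decide) [(2, 0), (3, 0)] (prs (by decide) _ (by decide +kernel)) (by decide +kernel)

theorem good15 (hN : Nice (⊤ : Subgroup Suz)) {s : Suz} (hs : Tab s p15) : Good s :=
  good_of_dead (p0 := 2) (q0 := 3) (ord15 hs) (by decide) (by decide +kernel)
    (K15.dead hN ⟨s, hs⟩ _ _ (tab_of_ckP hs K15.ha) (tab_of_ckP hs K15.hb))

theorem ord16 {s : Suz} (hs : Tab s p16) : orderOf s = 13 :=
  ord_of hs (by decide +kernel) (by decide) [(13, 1)] (prs (by decide) _ (by decide +kernel)) (by decide +kernel)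

theorem good16 {s : Suz} (hs : Tab s p16) : Good s :=
  good_of_ne (ord16 hs) (by decide) (by decide +kernel)

theorem ord17 {s : Suz} (hs : Tab s p17) : orderOf s = 21 :=
  ord_of hs (by decide +kernel) (by decide) [(3, 14), (7, 0)] (prs (by decide) _ (by decide +kernel)) (by decide +kernel)

theorem good17 (hN : Nice (⊤ : Subgroup Suz)) {s : Suz} (hs : Tab s p17) : Good s :=
  good_of_dead (p0 := 3) (q0 := 7) (ord17 hs) (by decide) (by decide +kernel)
    (K17.dead hN ⟨s, hs⟩ _ _ (tab_of_ckP hs K17.ha) (tab_of_ckP hs K17.hb))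

theorem ord18 {s : Suz} (hs : Tab s p18) : orderOf s = 15 :=
  ord_of hs (by decide +kernel) (by decide) [(3, 0), (5, 0)] (prs (by decide) _ (by decide +kernel)) (by decide +kernel)

theorem good18 (hN : Nice (⊤ : Subgroup Suz)) {s : Suz} (hs : Tab s p18) : Good s :=
  good_of_dead (p0 := 3) (q0 := 5) (ord18 hs) (by decide) (by decide +kernel)
    (K18.dead hN ⟨s, hs⟩ _ _ (tab_of_ckP hs K18.ha) (tab_of_ckP hs K18.hb))

theorem ord19 {s : Suz} (hs : Tab s p19) : orderOf s = 12 :=
  ord_of hs (by decide +kernel) (by decide) [(2, 0), (3, 0)] (prs (by decide) _ (by decide +kernel)) (by decide +kernel)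

theorem good19 {s : Suz} (hs : Tab s p19) : Good s :=
  good_of_ne (ord19 hs) (by decide) (by decide +kernel)

theorem ord20 {s : Suz} (hs : Tab s p20) : orderOf s = 9 :=
  ord_of hs (by decide +kernel) (by decide) [(3, 0)] (prs (by decide) _ (by decide +kernel)) (by decide +kernel)

theorem good20 {s : Suz} (hs : Tab s p20) : Good s :=
  good_of_ne (ord20 hs) (by decide) (by decide +kernel)

theorem ord21 {s : Suz} (hs : Tab s p21) : orderOf s = 18 :=
  ord_of hs (by decide +kernel) (by decide) [(2, 0), (3, 0)] (prs (by decide) _ (by decide +kernel)) (by decide +kernel)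

theorem good21 {s : Suz} (hs : Tab s p21) : Good s :=
  good_of_ne (ord21 hs) (by decide) (by decide +kernel)

theorem ord22 {s : Suz} (hs : Tab s p22) : orderOf s = 4 :=
  ord_of hs (by decide +kernel) (by decide) [(2, 0)] (prs (by decide) _ (by decide +kernel)) (by decide +kernel)

theorem good22 {s : Suz} (hs : Tab s p22) : Good s :=
  good_of_ne (ord22 hs) (by decide) (by decide +kernel)

theorem ord23 {s : Suz} (hs : Tab s p23) : orderOf s = 8 :=
  ord_of hs (by decide +kernel) (by decide) [(2, 0)] (prs (by decide) _ (by decide +kernel)) (by decide +kernel)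

theorem good23 {s : Suz} (hs : Tab s p23) : Good s :=
  good_of_ne (ord23 hs) (by decide) (by decide +kernel)

theorem ord24 {s : Suz} (hs : Tab s p24) : orderOf s = 12 :=
  ord_of hs (by decide +kernel) (by decide) [(2, 2), (3, 14)] (prs (by decide) _ (by decide +kernel)) (by decide +kernel)

theorem good24 {s : Suz} (hs : Tab s p24) : Good s :=
  good_of_ne (ord24 hs) (by decide) (by decide +kernel)

theorem ord25 {s : Suz} (hs : Tab s p25) : orderOf s = 10 :=
  ord_of hs (by decide +kernel) (by decide) [(2, 1), (5, 1)] (prs (by decide) _ (by decide +kernel)) (by decide +kernel)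

theorem good25 (hN : Nice (⊤ : Subgroup Suz)) {s : Suz} (hs : Tab s p25) : Good s :=
  good_of_dead (p0 := 2) (q0 := 5) (ord25 hs) (by decide) (by decide +kernel)
    (K25.dead hN ⟨s, hs⟩ _ _ (tab_of_ckP hs K25.ha) (tab_of_ckP hs K25.hb))

theorem ord26 {s : Suz} (hs : Tab s p26) : orderOf s = 12 :=
  ord_of hs (by decide +kernel) (by decide) [(2, 0), (3, 0)] (prs (by decide) _ (by decide +kernel)) (by decide +kernel)

theorem good26 {s : Suz} (hs : Tab s p26) : Good s :=
  good_of_ne (ord26 hs) (by decide) (by decide +kernel)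

theorem ord27 {s : Suz} (hs : Tab s p27) : orderOf s = 24 :=
  ord_of hs (by decide +kernel) (by decide) [(2, 1), (3, 0)] (prs (by decide) _ (by decide +kernel)) (by decide +kernel)

theorem good27 {s : Suz} (hs : Tab s p27) : Good s :=
  good_of_ne (ord27 hs) (by decide) (by decide +kernel)

theorem ord28 {s : Suz} (hs : Tab s p28) : orderOf s = 6 :=
  ord_of hs (by decide +kernel) (by decide) [(2, 2), (3, 2)] (prs (by decide) _ (by decide +kernel)) (by decide +kernel)

theorem good28 (hN : Nice (⊤ : Subgroup Suz)) {s : Suz} (hs : Tab s p28) : Good s :=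
  good_of_dead (p0 := 2) (q0 := 3) (ord28 hs) (by decide) (by decide +kernel)
    (K28.dead hN ⟨s, hs⟩ _ _ (tab_of_ckP hs K28.ha) (tab_of_ckP hs K28.hb))

theorem ord29 {s : Suz} (hs : Tab s p29) : orderOf s = 7 :=
  ord_of hs (by decide +kernel) (by decide) [(7, 0)] (prs (by decide) _ (by decide +kernel)) (by decide +kernel)

theorem good29 {s : Suz} (hs : Tab s p29) : Good s :=
  good_of_ne (ord29 hs) (by decide) (by decide +kernel)

theorem ord30 {s : Suz} (hs : Tab s p30) : orderOf s = 8 :=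
  ord_of hs (by decide +kernel) (by decide) [(2, 1)] (prs (by decide) _ (by decide +kernel)) (by decide +kernel)

theorem good30 {s : Suz} (hs : Tab s p30) : Good s :=
  good_of_ne (ord30 hs) (by decide) (by decide +kernel)

theorem ord31 {s : Suz} (hs : Tab s p31) : orderOf s = 2 :=
  ord_of hs (by decide +kernel) (by decide) [(2, 0)] (prs (by decide) _ (by decide +kernel)) (by decide +kernel)

theorem good31 {s : Suz} (hs : Tab s p31) : Good s :=
  good_of_ne (ord31 hs) (by decide) (by decide +kernel)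

theorem ord32 {s : Suz} (hs : Tab s p32) : orderOf s = 6 :=
  ord_of hs (by decide +kernel) (by decide) [(2, 0), (3, 0)] (prs (by decide) _ (by decide +kernel)) (by decide +kernel)

theorem good32 (hN : Nice (⊤ : Subgroup Suz)) {s : Suz} (hs : Tab s p32) : Good s :=
  good_of_dead (p0 := 2) (q0 := 3) (ord32 hs) (by decide) (by decide +kernel)
    (K32.dead hN ⟨s, hs⟩ _ _ (tab_of_ckP hs K32.ha) (tab_of_ckP hs K32.hb))

theorem ord33 {s : Suz} (hs : Tab s p33) : orderOf s = 4 :=
  ord_of hs (by decide +kernel) (by decide) [(2, 1)] (prs (by decide) _ (by decide +kernel)) (by decide +kernel)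

theorem good33 {s : Suz} (hs : Tab s p33) : Good s :=
  good_of_ne (ord33 hs) (by decide) (by decide +kernel)

theorem ord34 {s : Suz} (hs : Tab s p34) : orderOf s = 5 :=
  ord_of hs (by decide +kernel) (by decide) [(5, 1)] (prs (by decide) _ (by decide +kernel)) (by decide +kernel)

theorem good34 {s : Suz} (hs : Tab s p34) : Good s :=
  good_of_ne (ord34 hs) (by decide) (by decide +kernel)

theorem ord35 {s : Suz} (hs : Tab s p35) : orderOf s = 4 :=
  ord_of hs (by decide +kernel) (by decide) [(2, 2)] (prs (by decide) _ (by decide +kernel)) (by decide +kernel)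

theorem good35 {s : Suz} (hs : Tab s p35) : Good s :=
  good_of_ne (ord35 hs) (by decide) (by decide +kernel)

theorem ord36 {s : Suz} (hs : Tab s p36) : orderOf s = 3 :=
  ord_of hs (by decide +kernel) (by decide) [(3, 4)] (prs (by decide) _ (by decide +kernel)) (by decide +kernel)

theorem good36 {s : Suz} (hs : Tab s p36) : Good s :=
  good_of_ne (ord36 hs) (by decide) (by decide +kernel)

theorem good_D (hN : Nice (⊤ : Subgroup Suz)) : ∀ x ∈ D, ∀ s : Suz, Tab s x.1 → Good s :=
  List.forall_mem_cons.2 ⟨fun _ hs => good0 hs, List.forall_mem_cons.2 ⟨fun _ hs => good1 hs, List.forall_mem_cons.2 ⟨fun _ hs => good2 hs, 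
  List.forall_mem_cons.2 ⟨fun _ hs => good3 hN hs, List.forall_mem_cons.2 ⟨fun _ hs => good4 hs, List.forall_mem_cons.2 ⟨fun _ hs => good5 hs, 
  List.forall_mem_cons.2 ⟨fun _ hs => good6 hs, List.forall_mem_cons.2 ⟨fun _ hs => good7 hs, List.forall_mem_cons.2 ⟨fun _ hs => good8 hs, 
  List.forall_mem_cons.2 ⟨fun _ hs => good9 hs, List.forall_mem_cons.2 ⟨fun _ hs => good10 hN hs, List.forall_mem_cons.2 ⟨fun _ hs => good11 hs, 
  List.forall_mem_cons.2 ⟨fun _ hs => good12 hN hs, List.forall_mem_cons.2 ⟨fun _ hs => good13 hN hs, List.forall_mem_cons.2 ⟨fun _ hs => good14 hs, 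
  List.forall_mem_cons.2 ⟨fun _ hs => good15 hN hs, List.forall_mem_cons.2 ⟨fun _ hs => good16 hs, List.forall_mem_cons.2 ⟨fun _ hs => good17 hN hs, 
  List.forall_mem_cons.2 ⟨fun _ hs => good18 hN hs, List.forall_mem_cons.2 ⟨fun _ hs => good19 hs, List.forall_mem_cons.2 ⟨fun _ hs => good20 hs, 
  List.forall_mem_cons.2 ⟨fun _ hs => good21 hs, List.forall_mem_cons.2 ⟨fun _ hs => good22 hs, List.forall_mem_cons.2 ⟨fun _ hs => good23 hs, 
  List.forall_mem_cons.2 ⟨fun _ hs => good24 hs, List.forall_mem_cons.2 ⟨fun _ hs => good25 hN hs, List.forall_mem_cons.2 ⟨fun _ hs => good26 hs, 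
  List.forall_mem_cons.2 ⟨fun _ hs => good27 hs, List.forall_mem_cons.2 ⟨fun _ hs => good28 hN hs, List.forall_mem_cons.2 ⟨fun _ hs => good29 hs, 
  List.forall_mem_cons.2 ⟨fun _ hs => good30 hs, List.forall_mem_cons.2 ⟨fun _ hs => good31 hs, List.forall_mem_cons.2 ⟨fun _ hs => good32 hN hs, 
  List.forall_mem_cons.2 ⟨fun _ hs => good33 hs, List.forall_mem_cons.2 ⟨fun _ hs => good34 hs, List.forall_mem_cons.2 ⟨fun _ hs => good35 hs, 
  List.forall_mem_cons.2 ⟨fun _ hs => good36 hs, List.forall_mem_nil _⟩⟩⟩⟩⟩⟩⟩⟩⟩⟩⟩⟩⟩⟩⟩⟩⟩⟩⟩⟩⟩⟩⟩⟩⟩⟩⟩⟩⟩⟩⟩⟩⟩⟩⟩⟩⟩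

/-- all elements of `Suz` are good -/
theorem good (hN : Nice (⊤ : Subgroup Suz)) (g : Suz) : Good g := by
  obtain ⟨x, hx, r, ⟨r0, rfl⟩, hr, c, hc, h⟩ := suz_cover (ψ g) ⟨g, rfl⟩
  exact good_conj hc h (good_D hN x hx r0 hr)

end Cfsg.Agent.H916.RG.Suz
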